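import Cfsg.Agent.H98.MaximalSLSubfield
import Cfsg.Agent.H60.SLSub.Plane

/-!
Subfield subgroups are maximal in special linear groups of dimension at least four.

In odd characteristic two non-commuting transvections generate a group containing the involution that is `-1` on
their plane; it commutes with both, so a transvection normalising the rational structure must be rational.
-/

set_option autoImplicit false
set_option linter.style.haveILetI false

namespace Cfsg.Agent.H60.SLSub

open Matrix Cfsg.Agent.H98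
open scoped MatrixGroups

variable {F : Type*} [Field F] {F₀ : Subfield F}

/-- The subfield subgroup is maximal in the special linear group of dimension at least four. -/
theorem sl_subfield_maximal_four [Fintype F] {n : ℕ} (hn : 4 ≤ n) {r : ℕ} (hr : r.Prime)
    (hcard : Fintype.card F = Nat.card F₀ ^ r) :
    Cfsg.Geo.IsMaximalIn (Cfsg.Geo.specialLinear (Fin n) F)
      (subGroupF (Fin n) F₀ ⊓ Cfsg.Geo.specialLinear (Fin n) F) := by
  classical
  haveI : Nonempty (Fin n) := ⟨⟨0, by omega⟩⟩
  have hn3 : 3 ≤ Fintype.card (Fin n) := by rw [Fintype.card_fin]; omega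
  haveI := Fintype.ofFinite F₀
  set e0 : Fin n := ⟨0, by omega⟩
  set e1 : Fin n := ⟨1, by omega⟩
  set e2 : Fin n := ⟨2, by omega⟩
  set e3 : Fin n := ⟨3, by omega⟩
  have h01 : e0 ≠ e1 := by simp [e0, e1, Fin.ext_iff]
  have h02 : e0 ≠ e2 := by simp [e0, e2, Fin.ext_iff]
  have h03 : e0 ≠ e3 := by simp [e0, e3, Fin.ext_iff]
  have h12 : e1 ≠ e2 := by simp [e1, e2, Fin.ext_iff]
  have h13 : e1 ≠ e3 := by simp [e1, e3, Fin.ext_iff]
  have h23 : e2 ≠ e3 := by simp [e2, e3, Fin.ext_iff]
  have hstrict : ∃ x ∈ Cfsg.Geo.specialLinear (Fin n) F,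
      x ∉ subGroupF (Fin n) F₀ ⊓ Cfsg.Geo.specialLinear (Fin n) F := by
    obtain ⟨c, hc⟩ : ∃ c : F, c ∉ F₀ := by
      by_contra hall; push Not at hall
      have h1 : Fintype.card F ≤ Fintype.card F₀ :=
        Fintype.card_le_of_injective (fun c => (⟨c, hall c⟩ : F₀)) fun a b h => congrArg Subtype.val h
      rw [hcard, Nat.card_eq_fintype_card] at h1
      have h2 := Nat.pow_lt_pow_right (Fintype.one_lt_card (α := F₀)) hr.one_lt
      rw [pow_one] at h2; omega
    refine ⟨elm h01 c, elm_mem_sl _ _, fun h => hc ?_⟩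
    obtain ⟨k, hk, hk'⟩ := mem_subGroupF.mp h.1
    have ha := hk' e0 e0
    have hb := hk' e0 e1
    simp only [elm_apply, Matrix.one_apply, h01, if_false, and_self, if_true, zero_add, and_false, add_zero,
      mul_one] at ha hb
    simpa [hk] using mul_mem (inv_mem ha) hb
  refine isMaximalIn_of inf_le_right hstrict fun M h1 h2 g hgM hgH => ?_
  by_contra hcon
  have hM : IsProperOver F₀ M := ⟨h1, h2, hcon⟩
  have hgS : g ∉ subGroupF (Fin n) F₀ := fun h => hgH ⟨h, h2 hgM⟩
  obtain ⟨l, m, hlm, hj⟩ : ∃ (l m : Fin n) (hlm : l ≠ m), g * elm hlm (1 : F) * g⁻¹ ∉ subGroupF (Fin n) F₀ := by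
    by_contra hall; push Not at hall
    exact hgS (mem_of_conj_elm hn3 hall)
  set j := g * elm hlm (1 : F) * g⁻¹ with hjdef
  have hjM : j ∈ M := M.mul_mem (M.mul_mem hgM (h1 (elm_mem_subGroupF _ (one_mem _)))) (M.inv_mem hgM)
  have hjv : ∀ v, (j : Matrix (Fin n) (Fin n) F) *ᵥ v =
      v + (((g⁻¹ : GL (Fin n) F) : Matrix (Fin n) (Fin n) F) *ᵥ v) m • ((g : Matrix (Fin n) (Fin n) F) *ᵥ Pi.single l 1) :=
    fun v => by
      simp only [hjdef, Units.val_mul, ← Matrix.mulVec_mulVec, elm_mulVec, Matrix.mulVec_add,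
        Matrix.mulVec_smul, gl_mulVec_inv, one_mul]
  by_cases h2c : (2 : F) = 0
  · -- even characteristic
    haveI : CharP F 2 := CharTwo.of_one_ne_zero_of_two_eq_zero one_ne_zero h2c
    haveI : Fact (Nat.Prime 2) := ⟨Nat.prime_two⟩
    have hsq : ∀ c : F, c * c ∈ F₀ → c ∈ F₀ := fun c hc => mem_subfield_of_pow_char 2 F₀ (by rwa [pow_two])
    have helm2 : ∀ {x y : Fin n} (h : x ≠ y), elm h (1 : F) * elm h 1 = 1 := fun h => by
      rw [elm_mul, one_add_one_eq_two, h2c, elm_zero]
    set i := elm h01 (1 : F) * elm h23 1 with hidef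
    have hiv : ∀ v, (i : Matrix (Fin n) (Fin n) F) *ᵥ v = v + v e1 • Pi.single e0 1 + v e3 • Pi.single e2 1 := fun v => by
      simp only [hidef, Units.val_mul, ← Matrix.mulVec_mulVec, elm_mulVec, Pi.add_apply, Pi.smul_apply,
        Pi.single_eq_of_ne h12, smul_zero, add_zero, one_mul]
      module
    have hiM : i ∈ M := M.mul_mem (h1 (elm_mem_subGroupF _ (one_mem _))) (h1 (elm_mem_subGroupF _ (one_mem _)))
    have hii : i * i = 1 := gl_ext fun v => by
      rw [Units.val_mul, ← Matrix.mulVec_mulVec, hiv, hiv, Units.val_one, Matrix.one_mulVec]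
      simp only [Pi.add_apply, Pi.smul_apply, Pi.single_eq_of_ne h01.symm, Pi.single_eq_of_ne h12,
        Pi.single_eq_of_ne h03.symm, Pi.single_eq_of_ne h23.symm, smul_zero, add_zero]
      have e : ∀ w : Fin n → F, w + w = 0 := fun w => by rw [← two_smul F, h2c, zero_smul]
      linear_combination (norm := module) e (v e1 • (Pi.single e0 1 : Fin n → F)) + e (v e3 • (Pi.single e2 1 : Fin n → F))
    have hjj : j * j = 1 := by
      rw [hjdef]
      calc g * elm hlm (1 : F) * g⁻¹ * (g * elm hlm (1 : F) * g⁻¹) = g * (elm hlm (1 : F) * elm hlm 1) * g⁻¹ := by group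
        _ = 1 := by rw [helm2]; simp
    rcases involution_pair hii hjj with hconj | ⟨k, hz1, hzz, hzi, hzj⟩
    · obtain ⟨c, hc⟩ := isConj_iff.mp hconj
      have hi' : i = c⁻¹ * j * c := by rw [← hc]; group
      set A := ((c⁻¹ : GL (Fin n) F) : Matrix (Fin n) (Fin n) F) *ᵥ ((g : Matrix (Fin n) (Fin n) F) *ᵥ Pi.single l 1)
      have hform : ∀ v, ∃ α : F, (i : Matrix (Fin n) (Fin n) F) *ᵥ v = v + α • A := fun v => by
        rw [hi']
        simp only [Units.val_mul, ← Matrix.mulVec_mulVec, hjv, Matrix.mulVec_add, Matrix.mulVec_smul,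
          gl_inv_mulVec]
        exact ⟨_, rfl⟩
      obtain ⟨α, hα⟩ := hform (Pi.single e1 1)
      obtain ⟨β, hβ⟩ := hform (Pi.single e3 1)
      rw [hiv] at hα hβ
      have a0 := congrFun hα e0
      have b0 := congrFun hβ e0
      have b2 := congrFun hβ e2
      simp only [Pi.add_apply, Pi.smul_apply, Pi.single_eq_same, Pi.single_eq_of_ne h01, Pi.single_eq_of_ne h03,
        Pi.single_eq_of_ne h02, Pi.single_eq_of_ne h02.symm, Pi.single_eq_of_ne h12.symm, Pi.single_eq_of_ne h23,
        Pi.single_eq_of_ne h13, Pi.single_eq_of_ne h13.symm, smul_eq_mul, mul_zero, zero_mul, mul_one, zero_add, add_zero] at a0 b0 b2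
      have hA0 : A e0 ≠ 0 := fun h => by rw [h, mul_zero] at a0; exact one_ne_zero a0
      rw [(mul_eq_zero.mp b0.symm).resolve_right hA0, zero_mul] at b2
      exact one_ne_zero b2
    · set z := (i * j) ^ k
      have hzM : z ∈ M := M.pow_mem (M.mul_mem hiM hjM) k
      have hrankA : ((i : Matrix (Fin n) (Fin n) F) - 1).rank + 2 ≤ Fintype.card (Fin n) := by
        have hle : LinearMap.range ((i : Matrix (Fin n) (Fin n) F) - 1).mulVecLin ≤
            Submodule.span F {(Pi.single e0 1 : Fin n → F), Pi.single e2 1} := by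
          rintro _ ⟨v, rfl⟩
          rw [Matrix.mulVecLin_apply, Matrix.sub_mulVec, Matrix.one_mulVec, hiv, Submodule.mem_span_pair]
          exact ⟨v e1, v e3, by module⟩
        have h4 := (Submodule.finrank_mono hle).trans (finrank_span_le_card _)
        have h5 : Set.toFinset ({(Pi.single e0 1 : Fin n → F), Pi.single e2 1}) ⊆
            {(Pi.single e0 1 : Fin n → F), Pi.single e2 1} := fun w => by simp
        have h6 := (Finset.card_le_card h5).trans Finset.card_le_two
        unfold Matrix.rank
        rw [Fintype.card_fin]; omega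
      have hrati : ∀ a b, ((i : Matrix (Fin n) (Fin n) F) - 1) a b ∈ F₀ := fun a b => by
        have h4 := congrFun (hiv (Pi.single b 1)) a
        rw [Matrix.mulVec_single_one, Matrix.col_apply] at h4
        rw [Matrix.sub_apply, h4]
        have hs : ∀ u w : Fin n, (Pi.single u (1 : F) : Fin n → F) w ∈ F₀ := fun u w => by
          rw [Pi.single_apply]; split_ifs <;> first | exact one_mem _ | exact zero_mem _
        have h5 : (1 : Matrix (Fin n) (Fin n) F) a b ∈ F₀ := by
          rw [Matrix.one_apply]; split_ifs <;> first | exact one_mem _ | exact zero_mem _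
        simp only [Pi.add_apply, Pi.smul_apply, smul_eq_mul]
        exact sub_mem (add_mem (add_mem (hs _ _) (mul_mem (hs _ _) (hs _ _))) (mul_mem (hs _ _) (hs _ _))) h5
      have hine : (i : Matrix (Fin n) (Fin n) F) - 1 ≠ 0 := fun h => by
        have := congrFun (hiv (Pi.single e1 1)) e0
        rw [sub_eq_zero.mp h, Matrix.one_mulVec] at this
        simp [h01, h03, h02, h13.symm] at this
      have hzS : z ∈ subGroupF (Fin n) F₀ := mem_of_commute_rational hn3 hr hcard hM _ hrati hine hrankA hzM (by
        rw [Matrix.mul_sub, Matrix.sub_mul, Matrix.mul_one, Matrix.one_mul, ← Units.val_mul, hzi, Units.val_mul])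
      have hzne : (z : Matrix (Fin n) (Fin n) F) - 1 ≠ 0 := fun h =>
        hz1 (Units.ext (by rw [Units.val_one]; exact sub_eq_zero.mp h))
      refine hj (mem_of_commute_rational hn3 hr hcard hM _ (fun a b => ?_) hzne ?_ hjM ?_)
      · rw [Matrix.sub_apply]
        refine sub_mem (rational_of_invol hsq hzz hzS a b) ?_
        rw [Matrix.one_apply]; split_ifs <;> first | exact one_mem _ | exact zero_mem _
      · have h0 : ((z : Matrix (Fin n) (Fin n) F) - 1) * ((z : Matrix (Fin n) (Fin n) F) - 1) = 0 := by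
          rw [Matrix.sub_mul, Matrix.mul_sub, Matrix.mul_sub, Matrix.one_mul, Matrix.one_mul, Matrix.mul_one,
            ← Units.val_mul, hzz, Units.val_one]
          have e : ∀ w : Matrix (Fin n) (Fin n) F, w + w = 0 := fun w => by rw [← two_smul F, h2c, zero_smul]
          linear_combination (norm := module) e (1 - (z : Matrix (Fin n) (Fin n) F))
        have := rank_add_rank_le h0
        rw [Fintype.card_fin] at this ⊢; omega
      · rw [Matrix.mul_sub, Matrix.sub_mul, Matrix.mul_one, Matrix.one_mul, ← Units.val_mul, ← hzj, Units.val_mul]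
  · -- odd characteristic
    set φ : Fin n → F := fun k => ((g⁻¹ : GL (Fin n) F) : Matrix (Fin n) (Fin n) F) m k with hφ
    set a : Fin n → F := fun k => (g : Matrix (Fin n) (Fin n) F) k l with ha
    have hφa : φ ⬝ᵥ a = 0 := by
      have h : ((g⁻¹ * g : GL (Fin n) F) : Matrix (Fin n) (Fin n) F) m l = 0 := by
        rw [inv_mul_cancel, Units.val_one, Matrix.one_apply_ne hlm.symm]
      rwa [Units.val_mul, Matrix.mul_apply] at h
    obtain ⟨x, y, hxy, hx, hy⟩ : ∃ x y, x ≠ y ∧ φ x ≠ 0 ∧ a y ≠ 0 := by
      by_contra hc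
      push Not at hc
      obtain ⟨x, hx⟩ : ∃ x, φ x ≠ 0 := by
        by_contra h; push Not at h
        exact Matrix.GeneralLinearGroup.det_ne_zero g⁻¹ (Matrix.det_eq_zero_of_row_eq_zero m h)
      obtain ⟨y, hy⟩ : ∃ y, a y ≠ 0 := by
        by_contra h; push Not at h
        exact Matrix.GeneralLinearGroup.det_ne_zero g (Matrix.det_eq_zero_of_column_eq_zero l h)
      obtain rfl : x = y := by
        by_contra h; exact hy (hc x y h hx)
      rw [dotProduct, Finset.sum_eq_single x (fun b _ hb => by rw [hc x b (Ne.symm hb) hx, mul_zero])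
        (by simp)] at hφa
      exact mul_ne_zero hx hy hφa
    let C : Matrix (Fin n) (Fin 2) F := Matrix.of fun k i => ![(Pi.single x 1 : Fin n → F) k, a k / a y] i
    let R : Matrix (Fin 2) (Fin n) F := Matrix.of fun i k => ![φ k / φ x, (Pi.single y 1 : Fin n → F) k] i
    have hC0 : ∀ k, C k 0 = (Pi.single x 1 : Fin n → F) k := fun k => rfl
    have hC1 : ∀ k, C k 1 = a k / a y := fun k => rfl
    have hR0 : ∀ k, R 0 k = φ k / φ x := fun k => rfl
    have hR1 : ∀ k, R 1 k = (Pi.single y 1 : Fin n → F) k := fun k => rfl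
    have hRC : R * C = 1 := by
      ext i j
      rw [Matrix.mul_apply]
      fin_cases i <;> fin_cases j
      · simp [hR0, hC0, Pi.single_apply, hx]
      · simp only [Fin.mk_one, Fin.zero_eta, hR0, hC1, div_mul_div_comm, ← Finset.sum_div]
        rw [show ∑ k, φ k * a k = 0 from hφa]
        simp
      · simp [hR1, hC0, Pi.single_apply]
        exact hxy
      · simp [hR1, hC1, Pi.single_apply, hy]
    have hform : ∀ A : SL(2, F), ∀ p q, (plane C R hRC A : Matrix (Fin n) (Fin n) F) p q =
        (1 : Matrix (Fin n) (Fin n) F) p q +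
          ((C p 0 * ((A : Matrix (Fin 2) (Fin 2) F) - 1) 0 0 + C p 1 * ((A : Matrix (Fin 2) (Fin 2) F) - 1) 1 0) * R 0 q +
          (C p 0 * ((A : Matrix (Fin 2) (Fin 2) F) - 1) 0 1 + C p 1 * ((A : Matrix (Fin 2) (Fin 2) F) - 1) 1 1) * R 1 q) :=
      fun A p q => by
        rw [plane_coe, Matrix.add_apply, Matrix.mul_apply, Fin.sum_univ_two, Matrix.mul_apply, Matrix.mul_apply,
          Fin.sum_univ_two, Fin.sum_univ_two]
    have ht : plane C R hRC upT = elm hxy (1 : F) := Units.ext <| Matrix.ext fun p q => by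
      rw [hform, elm_apply]
      simp [upT_coe, hC0, hR1, Pi.single_apply]
      split_ifs <;> simp_all
    have hjmem : plane C R hRC (loT (a y * φ x)) = j := Units.ext <| Matrix.ext fun p q => by
      have h := congrFun (hjv (Pi.single q 1)) p
      rw [Matrix.mulVec_single_one, Matrix.mulVec_single_one, Matrix.mulVec_single_one] at h
      simp only [Matrix.col_apply, Pi.add_apply, Pi.smul_apply, smul_eq_mul] at h
      rw [h, hform]
      change _ = _ + φ q * a p
      simp [loT_coe, hC1, hR0, Matrix.one_apply, Pi.single_apply]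
      field_simp
    have hcl : Subgroup.closure ({upT, loT (a y * φ x)} : Set SL(2, F)) ≤ M.comap (plane C R hRC) := by
      rw [Subgroup.closure_le]
      rintro _ (rfl | rfl)
      · exact Subgroup.mem_comap.mpr (ht ▸ h1 (elm_mem_subGroupF _ (one_mem _)))
      · exact Subgroup.mem_comap.mpr (hjmem ▸ hjM)
    have hzM : plane C R hRC (-1) ∈ M :=
      Subgroup.mem_comap.mp (hcl (neg_one_mem h2c (mul_ne_zero hy hx)))
    set z := plane C R hRC (-1) with hz
    have hzentry : ∀ p q, ((z : Matrix (Fin n) (Fin n) F) - 1) p q =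
        -2 * (C p 0 * R 0 q + C p 1 * R 1 q) := fun p q => by
      rw [Matrix.sub_apply, hz, hform]
      simp [Matrix.SpecialLinearGroup.coe_neg]
      ring
    have hzcomm : ∀ A : SL(2, F), (z : Matrix (Fin n) (Fin n) F) * (plane C R hRC A : Matrix (Fin n) (Fin n) F) =
        (plane C R hRC A : Matrix (Fin n) (Fin n) F) * (z : Matrix (Fin n) (Fin n) F) := fun A => by
      rw [hz, ← Units.val_mul, ← Units.val_mul, ← map_mul, ← map_mul, neg_one_mul, mul_neg_one]
    have hzS : z ∈ subGroupF (Fin n) F₀ := by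
      refine mem_of_commute_rational hn3 hr hcard hM ((elm hxy (1 : F) : Matrix (Fin n) (Fin n) F) - 1)
        (fun p q => ?_) (fun h => ?_) ?_ hzM ?_
      · rw [Matrix.sub_apply, elm_apply, Matrix.one_apply]
        simp only [add_sub_cancel_left]
        split_ifs <;> first | exact zero_mem _ | exact one_mem _
      · have := congrFun (congrFun h x) y
        simp [elm_apply, Matrix.one_apply, hxy] at this
      · have hle : LinearMap.range ((elm hxy (1 : F) : Matrix (Fin n) (Fin n) F) - 1).mulVecLin ≤
            Submodule.span F {(Pi.single x 1 : Fin n → F)} := by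
          rintro _ ⟨v, rfl⟩
          rw [Matrix.mulVecLin_apply, Matrix.sub_mulVec, Matrix.one_mulVec, elm_mulVec, add_sub_cancel_left]
          exact Submodule.mem_span_singleton.mpr ⟨_, rfl⟩
        have h4 := (Submodule.finrank_mono hle).trans (finrank_span_le_card ({Pi.single x 1} : Set (Fin n → F)))
        simp only [Set.toFinset_singleton, Finset.card_singleton] at h4
        unfold Matrix.rank
        rw [Fintype.card_fin]; omega
      · have := hzcomm upT
        rw [ht] at this
        rw [Matrix.mul_sub, Matrix.sub_mul, Matrix.mul_one, Matrix.one_mul, this]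
    have hzrat : ∀ p q, ((z : Matrix (Fin n) (Fin n) F) - 1) p q ∈ F₀ := by
      obtain ⟨c, hc, hent⟩ := mem_subGroupF.mp hzS
      have hxx : (z : Matrix (Fin n) (Fin n) F) x x = -1 := by
        have h := hzentry x x
        rw [Matrix.sub_apply, Matrix.one_apply_eq, hC0, hC1, hR0, hR1, Pi.single_eq_same,
          Pi.single_eq_of_ne hxy, div_self hx] at h
        linear_combination h
      have hcF : c ∈ F₀ := by
        have := hent x x
        rw [hxx, mul_neg, mul_one] at this
        simpa using neg_mem this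
      intro p q
      rw [Matrix.sub_apply]
      refine sub_mem ?_ ?_
      · have := mul_mem (inv_mem hcF) (hent p q)
        rwa [← mul_assoc, inv_mul_cancel₀ hc, one_mul] at this
      · rw [Matrix.one_apply]; split_ifs <;> first | exact one_mem _ | exact zero_mem _
    refine hj (mem_of_commute_rational hn3 hr hcard hM _ hzrat (fun h => ?_) ?_ hjM ?_)
    · have := hzentry x x
      rw [h, Matrix.zero_apply, hC0, hC1, hR0, hR1, Pi.single_eq_same, Pi.single_eq_of_ne hxy, div_self hx] at this
      exact h2c (by linear_combination this)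
    · have hle : ((z : Matrix (Fin n) (Fin n) F) - 1).rank ≤ 2 := by
        rw [hz, plane_coe, add_sub_cancel_left, Matrix.mul_assoc]
        refine le_trans (Matrix.rank_mul_le_left _ _) ?_
        exact (Matrix.rank_le_card_width C).trans (by simp)
      rw [Fintype.card_fin]; omega
    · have := hzcomm (loT (a y * φ x))
      rw [hjmem] at this
      rw [Matrix.mul_sub, Matrix.sub_mul, Matrix.mul_one, Matrix.one_mul, ← this]

/-- Every conjugate of the subfield group is maximal in the special linear group, in dimension at least four. -/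
theorem sl_subfield_conj_maximal_four [Fintype F] {n : ℕ} (hn : 4 ≤ n) {r : ℕ} (hr : r.Prime)
    (hcard : Fintype.card F = Nat.card F₀ ^ r) (P : GL (Fin n) F) :
    Cfsg.Geo.IsMaximalIn (Cfsg.Geo.specialLinear (Fin n) F)
      (Cfsg.Geo.subfieldSubgroup F₀ P ⊓ Cfsg.Geo.specialLinear (Fin n) F) := by
  haveI : Nonempty (Fin n) := ⟨⟨0, by omega⟩⟩
  have h := isMaximalIn_conj P (sl_subfield_maximal_four (F₀ := F₀) hn hr hcard)
  have hinj : Function.Injective (MulAut.conj P).toMonoidHom := (MulAut.conj P).injective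
  have hsl : (Cfsg.Geo.specialLinear (Fin n) F).map (MulAut.conj P).toMonoidHom =
      Cfsg.Geo.specialLinear (Fin n) F := by
    refine le_antisymm ?_ fun g hg => ⟨P⁻¹ * g * P, ?_, ?_⟩
    · rintro _ ⟨g, hg, rfl⟩
      exact sl_conj_mem P g hg
    · have := sl_conj_mem P⁻¹ g hg
      rwa [inv_inv] at this
    · change P * (P⁻¹ * g * P) * P⁻¹ = g
      group
  rw [Subgroup.map_inf _ _ _ hinj, hsl, ← subfieldSubgroup_eq_map] at h
  exact h

end Cfsg.Agent.H60.SLSub
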